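import Groth.Agent.SigmaLin26.Field
import Mathlib.FieldTheory.IsAlgClosed.Basic
import Mathlib.FieldTheory.Perfect

/-! The solvability hypotheses for Frobenius and its inverse. -/

namespace Groth.Agent.SigmaLin26

open Polynomial

universe u

variable {p : ℕ} [hp : Fact p.Prime] {k : Type u} [Field k] [CharP k p] [IsAlgClosed k]

theorem exists_root_ne_zero (f : k[X]) (hf : f ≠ 0) {i j : ℕ} (hij : i ≠ j) (hi : f.coeff i ≠ 0)
    (hj : f.coeff j ≠ 0) : ∃ x : k, x ≠ 0 ∧ f.eval x = 0 := by
  by_contra h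
  push Not at h
  have hroots : f.roots = Multiset.replicate (Multiset.card f.roots) 0 :=
    Multiset.eq_replicate_card.2 fun x hx => by
      by_contra hx0
      exact h x hx0 ((mem_roots hf).1 hx)
  have hfac := (IsAlgClosed.splits f).eq_prod_roots
  rw [hroots, Multiset.map_replicate, Multiset.prod_replicate, map_zero, sub_zero] at hfac
  have hcoeff : ∀ m, f.coeff m ≠ 0 → m = Multiset.card f.roots := fun m hm => by
    rw [hfac, coeff_C_mul, coeff_X_pow] at hm
    by_contra hne
    exact hm (by rw [if_neg hne, mul_zero])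
  exact hij ((hcoeff i hi).trans (hcoeff j hj).symm)

theorem iterate_frobenius_eq (i : ℕ) (x : k) : (⇑(frobenius k p))^[i] x = x ^ p ^ i :=
  iterate_frobenius ..

theorem frob_solvable₁ : Solvable₁ (frobenius k p) := by
  intro n b hb
  let β : Fin (n + 1) → k := fun i => (⇑(frobenius k p))^[i.val] (b (Fin.rev i))
  let f : k[X] := ∑ i : Fin (n + 1), C (β i) * X ^ p ^ (i.val + 1) - X
  obtain ⟨i₀, hi₀⟩ := Function.ne_iff.1 hb
  have hβ : β (Fin.rev i₀) ≠ 0 := by
    simp only [β, Fin.rev_rev, iterate_frobenius_eq]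
    exact pow_ne_zero _ hi₀
  have hlt : ∀ m : ℕ, 1 < p ^ (m + 1) := fun m => Nat.one_lt_pow (by omega) hp.out.one_lt
  have hc1 : f.coeff 1 = -1 := by
    simp only [f, coeff_sub, finsetSum_coeff, coeff_C_mul, coeff_X_pow, coeff_X_one]
    rw [Finset.sum_eq_zero fun i _ => by rw [if_neg (hlt i).ne, mul_zero], zero_sub]
  have hci : f.coeff (p ^ ((Fin.rev i₀).val + 1)) = β (Fin.rev i₀) := by
    simp only [f, coeff_sub, finsetSum_coeff, coeff_C_mul, coeff_X_pow]
    rw [Finset.sum_eq_single (Fin.rev i₀), if_pos rfl, mul_one, coeff_X,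
      if_neg (hlt _).ne, sub_zero]
    · intro j _ hj
      rw [if_neg (fun h => hj (Fin.ext (by
        have := Nat.pow_right_injective hp.out.two_le h; omega))), mul_zero]
    · simp
  obtain ⟨x, hx0, hx⟩ := exists_root_ne_zero f
    (fun h => by rw [h, coeff_zero] at hc1; exact one_ne_zero (neg_eq_zero.1 hc1.symm))
    (hlt _).ne (by rw [hc1]; exact neg_ne_zero.2 one_ne_zero) (by rw [hci]; exact hβ)
  refine ⟨x, hx0, ?_⟩
  simp only [f, eval_sub, eval_finsetSum, eval_mul, eval_C, eval_pow, eval_X, sub_eq_zero] at hx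
  conv_lhs => rw [← hx]
  exact Finset.sum_congr rfl fun i _ => by rw [iterate_frobenius_eq (i.val + 1), mul_comm]

theorem frob_solvable₂ : Solvable₂ (frobenius k p) := by
  intro c
  obtain ⟨y, hy⟩ := IsAlgClosed.exists_root (X ^ p - X + C c : k[X]) (by
    rw [degree_add_eq_left_of_degree_lt, degree_sub_eq_left_of_degree_lt, degree_X_pow]
    · simpa using hp.out.ne_zero
    · rw [degree_X_pow, degree_X]; exact_mod_cast hp.out.one_lt
    · rw [degree_sub_eq_left_of_degree_lt, degree_X_pow]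
      · exact degree_C_le.trans_lt (by exact_mod_cast hp.out.pos)
      · rw [degree_X_pow, degree_X]; exact_mod_cast hp.out.one_lt)
  exact ⟨y, by simpa [frobenius_def] using hy⟩

theorem frobInv_solvable₁ : Solvable₁ (frobeniusEquiv k p).symm.toRingHom := by
  intro n b hb
  set σ := (frobeniusEquiv k p).symm.toRingHom with hσ
  let β : Fin (n + 1) → k := fun i => (⇑σ)^[i.val] (b (Fin.rev i))
  have hone : ∀ y : k, σ (y ^ p) = y := fun y => frobeniusEquiv_symm_apply_frobenius k p y
  have hpow : ∀ (i m : ℕ) (y : k), (⇑σ)^[i] (y ^ p ^ (i + m)) = y ^ p ^ m := by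
    intro i
    induction i with
    | zero => intro m y; simp
    | succ i ih =>
      intro m y
      rw [show i + 1 + m = i + (m + 1) by omega, Function.iterate_succ_apply', ih, pow_succ p m,
        pow_mul, hone]
  let f : k[X] := ∑ i : Fin (n + 1), C (β i) * X ^ p ^ (n - i.val) - X ^ p ^ (n + 1)
  obtain ⟨i₀, hi₀⟩ := Function.ne_iff.1 hb
  have hβ : β (Fin.rev i₀) ≠ 0 := by
    simp only [β, Fin.rev_rev]
    intro h
    exact hi₀ ((σ.injective.iterate _) (h.trans (Function.iterate_fixed (map_zero σ) _).symm))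
  have hlt : ∀ i : Fin (n + 1), p ^ (n - i.val) < p ^ (n + 1) := fun i =>
    Nat.pow_lt_pow_right hp.out.one_lt (by omega)
  have hc1 : f.coeff (p ^ (n + 1)) = -1 := by
    simp only [f, coeff_sub, finsetSum_coeff, coeff_C_mul, coeff_X_pow]
    rw [Finset.sum_eq_zero fun i _ => by rw [if_neg (hlt i).ne', mul_zero]]
    simp
  have hci : f.coeff (p ^ (n - (Fin.rev i₀).val)) = β (Fin.rev i₀) := by
    simp only [f, coeff_sub, finsetSum_coeff, coeff_C_mul, coeff_X_pow]
    rw [Finset.sum_eq_single (Fin.rev i₀), if_pos rfl, mul_one, if_neg (hlt _).ne, sub_zero]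
    · intro j _ hj
      rw [if_neg (fun h => hj (Fin.ext (by
        have := Nat.pow_right_injective hp.out.two_le h; omega))), mul_zero]
    · simp
  obtain ⟨z, hz0, hz⟩ := exists_root_ne_zero f
    (fun h => by rw [h, coeff_zero] at hc1; exact one_ne_zero (neg_eq_zero.1 hc1.symm))
    (hlt (Fin.rev i₀)).ne (by rw [hci]; exact hβ) (by rw [hc1]; exact neg_ne_zero.2 one_ne_zero)
  refine ⟨z ^ p ^ (n + 1), pow_ne_zero _ hz0, ?_⟩
  simp only [f, eval_sub, eval_finsetSum, eval_mul, eval_C, eval_pow, eval_X, sub_eq_zero] at hz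
  conv_lhs => rw [← hz]
  refine Finset.sum_congr rfl fun i _ => ?_
  rw [mul_comm]
  congr 1
  have e : p ^ (n + 1) = p ^ (i.val + 1 + (n - i.val)) := by
    rw [Nat.add_right_comm, Nat.add_sub_cancel' (Nat.le_of_lt_succ i.2)]
  rw [e]
  exact (hpow _ _ _).symm

theorem frobInv_solvable₂ : Solvable₂ (frobeniusEquiv k p).symm.toRingHom := by
  intro c
  obtain ⟨z, hz⟩ := frob_solvable₂ (p := p) (k := k) (-c)
  refine ⟨z ^ p, ?_⟩
  change (frobeniusEquiv k p).symm (z ^ p) - z ^ p + c = 0
  rw [frobeniusEquiv_symm_apply_frobenius k p z |> fun h => show (frobeniusEquiv k p).symm (z ^ p) = z from h]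
  rw [frobenius_def] at hz
  linear_combination (-1 : k) * hz

end Groth.Agent.SigmaLin26
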