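import Mathlib.LinearAlgebra.Dimension.Finite
import Mathlib.LinearAlgebra.FiniteDimensional.Lemmas
import Mathlib.LinearAlgebra.Matrix.ToLin
import Mathlib.RingTheory.Noetherian.Basic
import Mathlib.RingTheory.Artinian.Module
import Mathlib.LinearAlgebra.Dimension.OrzechProperty
import Mathlib.Tactic.LinearCombination

/-! Semilinear endomorphisms of finite dimensional vector spaces. -/

namespace Groth.Agent.SigmaLin26

open Submodule

universe u v

variable {k : Type u} [Field k] {σ : k →+* k} {V : Type v} [AddCommGroup V] [Module k V]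

section Iter

variable (T : V →ₛₗ[σ] V)

theorem iterate_add' (n : ℕ) (x y : V) : (⇑T)^[n] (x + y) = (⇑T)^[n] x + (⇑T)^[n] y := by
  induction n with
  | zero => rfl
  | succ n ih => simp only [Function.iterate_succ', Function.comp_apply, ih, map_add]

theorem iterate_smul' (n : ℕ) (c : k) (x : V) : (⇑T)^[n] (c • x) = (⇑σ)^[n] c • (⇑T)^[n] x := by
  induction n with
  | zero => rfl
  | succ n ih => simp only [Function.iterate_succ', Function.comp_apply, ih, LinearMap.map_smulₛₗ]

theorem iterate_zero' (n : ℕ) : (⇑T)^[n] (0 : V) = 0 :=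
  Function.iterate_fixed (map_zero T) n

theorem iterate_sub' (n : ℕ) (x y : V) : (⇑T)^[n] (x - y) = (⇑T)^[n] x - (⇑T)^[n] y :=
  eq_sub_of_add_eq (by rw [← iterate_add', sub_add_cancel])

/-- The span of the image of the `n`-th iterate. -/
abbrev img (n : ℕ) : Submodule k V := span k (Set.range ((⇑T)^[n]))

theorem img_succ_le (n : ℕ) : img T (n + 1) ≤ img T n :=
  span_mono (Set.range_subset_iff.2 fun v => ⟨T v, (Function.iterate_succ_apply _ _ v).symm⟩)

theorem map_img (n : ℕ) {v : V} (hv : v ∈ img T n) : T v ∈ img T (n + 1) := by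
  induction hv using span_induction with
  | mem x hx =>
    obtain ⟨w, rfl⟩ := hx
    exact subset_span ⟨w, Function.iterate_succ_apply' _ _ w⟩
  | zero => rw [map_zero]; exact zero_mem _
  | add x y _ _ hx hy => rw [map_add]; exact add_mem hx hy
  | smul c x _ hx => rw [LinearMap.map_smulₛₗ]; exact smul_mem _ _ hx

theorem img_succ_eq (n : ℕ) : img T (n + 1) = span k (T '' (img T n : Set V)) := by
  refine le_antisymm (span_le.2 ?_) (span_le.2 ?_)
  · rintro _ ⟨w, rfl⟩
    exact subset_span ⟨(⇑T)^[n] w, subset_span ⟨w, rfl⟩, (Function.iterate_succ_apply' _ _ w).symm⟩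
  · rintro _ ⟨w, hw, rfl⟩
    exact map_img T n hw

/-- The part on which `T` is bijective. -/
abbrev ss : Submodule k V := ⨅ n, img T n

theorem exists_stable [FiniteDimensional k V] : ∃ N, ∀ n, N ≤ n → img T n = ss T := by
  have hanti : Antitone (img T) := antitone_nat_of_succ_le (img_succ_le T)
  obtain ⟨N, hN⟩ := IsArtinian.monotone_stabilizes (R := k) (M := V)
    ⟨fun n => OrderDual.toDual (img T n), fun a b hab => hanti hab⟩
  have hstab : ∀ n, N ≤ n → img T n = img T N := fun n hn => (OrderDual.toDual.injective (hN n hn)).symm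
  refine ⟨N, fun n hn => le_antisymm (le_iInf fun m => ?_) (iInf_le _ n)⟩
  rw [hstab n hn, ← hstab (max N m) (le_max_left _ _)]
  exact hanti (le_max_right _ _)

theorem map_ss [FiniteDimensional k V] {v : V} (hv : v ∈ ss T) : T v ∈ ss T := by
  obtain ⟨N, hN⟩ := exists_stable T
  rw [← hN N le_rfl] at hv
  rw [← hN (N + 1) (Nat.le_succ N)]
  exact map_img T N hv

/-- `T` on `ss T`. -/
def restrictSS [FiniteDimensional k V] : ss T →ₛₗ[σ] ss T where
  toFun v := ⟨T v.1, map_ss T v.2⟩
  map_add' a b := Subtype.ext (map_add T _ _)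
  map_smul' c a := Subtype.ext (T.map_smulₛₗ c a.1)

theorem span_restrictSS [FiniteDimensional k V] : span k (Set.range (restrictSS T)) = ⊤ := by
  obtain ⟨N, hN⟩ := exists_stable T
  refine eq_top_iff.2 fun v _ => ?_
  have e : span k (T '' (img T N : Set V)) = ss T := by
    rw [← img_succ_eq, hN (N + 1) (Nat.le_succ N)]
  rw [hN N le_rfl] at e
  have hv : v.1 ∈ span k (T '' (ss T : Set V)) := by rw [e]; exact v.2
  have hmap : (span k (Set.range (restrictSS T))).map (ss T).subtype =
      span k (T '' (ss T : Set V)) := by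
    rw [Submodule.map_span]
    congr 1
    ext x
    constructor
    · rintro ⟨_, ⟨w, rfl⟩, rfl⟩
      exact ⟨w.1, w.2, rfl⟩
    · rintro ⟨w, hw, rfl⟩
      exact ⟨_, ⟨⟨w, hw⟩, rfl⟩, rfl⟩
  rw [← hmap] at hv
  obtain ⟨w, hw, hwv⟩ := hv
  rwa [show w = v from Subtype.ext hwv] at hw

end Iter

theorem injective_of_span [FiniteDimensional k V] (T : V →ₛₗ[σ] V)
    (h : span k (Set.range ⇑T) = ⊤) : Function.Injective T := by
  rw [injective_iff_map_eq_zero]
  intro v hv
  let b := Module.finBasis k V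
  have hspan : ⊤ ≤ span k (Set.range fun i => T (b i)) := by
    rw [← h, span_le]
    rintro _ ⟨w, rfl⟩
    rw [← b.sum_repr w, map_sum]
    refine sum_mem fun i _ => ?_
    rw [LinearMap.map_smulₛₗ]
    exact smul_mem _ _ (subset_span ⟨i, rfl⟩)
  have hli : LinearIndependent k fun i => T (b i) :=
    linearIndependent_of_top_le_span_of_card_eq_finrank hspan (Fintype.card_fin _)
  have h0 : ∀ i, σ (b.repr v i) = 0 := by
    refine Fintype.linearIndependent_iff.1 hli _ ?_
    rw [← hv]
    conv_rhs => rw [← b.sum_repr v, map_sum]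
    simp [LinearMap.map_smulₛₗ]
  rw [← b.sum_repr v]
  exact Finset.sum_eq_zero fun i _ => by
    rw [(map_eq_zero σ).1 (h0 i), zero_smul]

theorem injOn_ss [FiniteDimensional k V] (T : V →ₛₗ[σ] V) {v : V} (hv : v ∈ ss T) (n : ℕ)
    (h : (⇑T)^[n] v = 0) : v = 0 := by
  induction n generalizing v with
  | zero => exact h
  | succ n ih =>
    rw [Function.iterate_succ_apply] at h
    have h1 := ih (map_ss T hv) h
    have h2 : restrictSS T ⟨v, hv⟩ = 0 := Subtype.ext h1
    exact congrArg Subtype.val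
      ((injective_iff_map_eq_zero _).1 (injective_of_span _ (span_restrictSS T)) _ h2)

theorem fitting [FiniteDimensional k V] (hσ : Function.Surjective σ) (T : V →ₛₗ[σ] V) :
    (∃ W : Submodule k V, (W : Set V) = {v : V | ∃ n : ℕ, (⇑T)^[n] v = 0} ∧
      (∃ N : ℕ, ∀ v ∈ W, (⇑T)^[N] v = 0) ∧ IsCompl W (ss T)) ∧
    Set.BijOn (⇑T) (ss T : Set V) (ss T : Set V) := by
  have hsurj : ∀ y ∈ ss T, ∃ x ∈ ss T, T x = y := by
    intro y hy
    suffices h : ∀ z ∈ span k (Set.range (restrictSS T)), ∃ x, restrictSS T x = z by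
      obtain ⟨x, hx⟩ := h ⟨y, hy⟩ (by rw [span_restrictSS]; trivial)
      exact ⟨x.1, x.2, congrArg Subtype.val hx⟩
    intro z hz
    induction hz using span_induction with
    | mem x hx => exact hx
    | zero => exact ⟨0, map_zero _⟩
    | add a b _ _ ha hb =>
      obtain ⟨a, rfl⟩ := ha; obtain ⟨b, rfl⟩ := hb
      exact ⟨a + b, map_add _ _ _⟩
    | smul c a _ ha =>
      obtain ⟨a, rfl⟩ := ha
      obtain ⟨c, rfl⟩ := hσ c
      exact ⟨c • a, LinearMap.map_smulₛₗ _ _ _⟩
  refine ⟨?_, fun v hv => map_ss T hv, fun x hx y hy hxy => ?_, fun y hy => ?_⟩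
  · let K : ℕ → Submodule k V := fun n =>
      { carrier := {v | (⇑T)^[n] v = 0}
        add_mem' := fun {a b} (ha : (⇑T)^[n] a = 0) (hb : (⇑T)^[n] b = 0) =>
          show (⇑T)^[n] (a + b) = 0 by rw [iterate_add', ha, hb, add_zero]
        zero_mem' := iterate_zero' T n
        smul_mem' := fun c x (hx : (⇑T)^[n] x = 0) =>
          show (⇑T)^[n] (c • x) = 0 by rw [iterate_smul', hx, smul_zero] }
    have hmono : Monotone K := monotone_nat_of_le_succ fun n v (hv : (⇑T)^[n] v = 0) =>
      show (⇑T)^[n + 1] v = 0 by rw [Function.iterate_succ_apply', hv, map_zero]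
    obtain ⟨N₁, hN₁⟩ := monotone_stabilizes_iff_noetherian.2
      (inferInstance : IsNoetherian k V) ⟨K, hmono⟩
    obtain ⟨N₂, hN₂⟩ := exists_stable T
    let N := max N₁ N₂
    have hKeq : ∀ n, N₁ ≤ n → K N₁ = K n := fun n hn => hN₁ n hn
    refine ⟨K N, ?_, ⟨N, fun v hv => hv⟩, ?_, ?_⟩
    · ext v
      refine ⟨fun hv => ⟨N, hv⟩, fun ⟨n, hn⟩ => ?_⟩
      have h1 : v ∈ K (max n N) := hmono (le_max_left n N) hn
      rw [← hKeq _ ((le_max_left N₁ N₂).trans (le_max_right n N)),
        hKeq N (le_max_left N₁ N₂)] at h1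
      exact h1
    · rw [disjoint_def]
      exact fun v hv hv' => injOn_ss T hv' N hv
    · rw [codisjoint_iff, eq_top_iff]
      intro v _
      have hiter : ∀ m, ∀ y ∈ ss T, ∃ x ∈ ss T, (⇑T)^[m] x = y := by
        intro m
        induction m with
        | zero => exact fun y hy => ⟨y, hy, rfl⟩
        | succ m ih =>
          intro y hy
          obtain ⟨x₁, hx₁, rfl⟩ := hsurj y hy
          obtain ⟨x, hx, rfl⟩ := ih x₁ hx₁
          exact ⟨x, hx, Function.iterate_succ_apply' _ _ _⟩
      obtain ⟨w, hw, hwv⟩ := hiter N ((⇑T)^[N] v) (by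
        rw [← hN₂ N (le_max_right _ _)]; exact subset_span ⟨v, rfl⟩)
      have h1 : v - w ∈ K N := show (⇑T)^[N] (v - w) = 0 by rw [iterate_sub', hwv, sub_self]
      simpa using add_mem_sup h1 hw
  · have h2 : restrictSS T ⟨x, hx⟩ = restrictSS T ⟨y, hy⟩ := Subtype.ext hxy
    exact congrArg Subtype.val (injective_of_span _ (span_restrictSS T) h2)
  · obtain ⟨x, hx, rfl⟩ := hsurj y hy
    exact ⟨x, hx, rfl⟩

/-- The solvability hypotheses. -/
def Solvable₁ (σ : k →+* k) : Prop :=
  ∀ (n : ℕ) (b : Fin (n + 1) → k), b ≠ 0 →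
    ∃ x : k, x ≠ 0 ∧ x = ∑ i : Fin (n + 1), (⇑σ)^[i.val + 1] x * (⇑σ)^[i.val] (b (Fin.rev i))

/-- Artin–Schreier solvability. -/
def Solvable₂ (σ : k →+* k) : Prop := ∀ c : k, ∃ y : k, σ y - y + c = 0

theorem exists_fixed [FiniteDimensional k V] (h2 : Solvable₁ σ) (T : V →ₛₗ[σ] V) (e : V)
    (he : ∀ m : ℕ, (⇑T)^[m] e ≠ 0) :
    ∃ v ∈ span k (Set.range fun m : ℕ => (⇑T)^[m] e), v ≠ 0 ∧ T v = v := by
  classical
  let f : ℕ → V := fun m => (⇑T)^[m] e
  have hex : ∃ n, ¬ LinearIndependent k fun i : Fin n => f i := by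
    refine ⟨Module.finrank k V + 1, fun h => ?_⟩
    have := h.fintype_card_le_finrank
    simp at this
  let d := Nat.find hex
  have hd : ¬ LinearIndependent k fun i : Fin d => f i := Nat.find_spec hex
  have hd2 : 2 ≤ d := by
    by_contra h
    apply hd
    have : d = 0 ∨ d = 1 := by omega
    rcases this with h | h
    · haveI : IsEmpty (Fin d) := by rw [h]; infer_instance
      exact linearIndependent_empty_type
    · haveI : Unique (Fin d) := by rw [h]; infer_instance
      exact .of_subsingleton (default : Fin d) (he _)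
  obtain ⟨n, hn⟩ : ∃ n, d = n + 2 := ⟨d - 2, by omega⟩
  have hli : LinearIndependent k fun i : Fin (n + 1) => f i :=
    not_not.1 (Nat.find_min hex (show n + 1 < d by omega))
  have hmem : f (n + 1) ∈ span k (Set.range fun i : Fin (n + 1) => f i) := by
    by_contra h
    apply hd
    rw [hn, linearIndependent_fin_succ']
    exact ⟨hli, h⟩
  obtain ⟨b, hb⟩ := (Submodule.mem_span_range_iff_exists_fun k).1 hmem
  have hb0 : b ≠ 0 := fun h => he (n + 1) (by
    change f (n + 1) = 0
    rw [← hb, h]; simp)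
  obtain ⟨x, hx0, hx⟩ := h2 n b hb0
  let B : ℕ → k := fun j => if h : j < n + 1 then b ⟨j, h⟩ else 0
  have hB : ∀ i : Fin (n + 1), B i = b i := fun i => dif_pos i.2
  let X : ℕ → k := fun j => Nat.rec (σ x * B 0) (fun j Xj => σ Xj + σ x * B (j + 1)) j
  have hX0 : X 0 = σ x * B 0 := rfl
  have hXs : ∀ j, X (j + 1) = σ (X j) + σ x * B (j + 1) := fun j => rfl
  have hXf : ∀ j, X j = ∑ i ∈ Finset.range (j + 1), (⇑σ)^[i + 1] x * (⇑σ)^[i] (B (j - i)) := by
    intro j
    induction j with
    | zero => simp [hX0]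
    | succ j ih =>
      rw [hXs, ih, map_sum, Finset.sum_range_succ' _ (j + 1)]
      congr 1
      refine Finset.sum_congr rfl fun i _ => ?_
      rw [map_mul, ← Function.iterate_succ_apply' (⇑σ), ← Function.iterate_succ_apply' (⇑σ),
        Nat.succ_sub_succ]
  have hXn : X n = x := by
    rw [hXf, Finset.sum_range]
    conv_rhs => rw [hx]
    refine Finset.sum_congr rfl fun i _ => ?_
    congr 2
    rw [← hB]
    congr 1
    rw [Fin.val_rev]
    omega
  refine ⟨∑ j ∈ Finset.range (n + 1), X j • f j, ?_, ?_, ?_⟩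
  · exact sum_mem fun j _ => smul_mem _ _ (subset_span ⟨j, rfl⟩)
  · intro h
    rw [Finset.sum_range] at h
    have := Fintype.linearIndependent_iff.1 hli (fun i => X i) h (Fin.last n)
    exact hx0 (hXn ▸ this)
  · have hTf : ∀ j, T (f j) = f (j + 1) := fun j => (Function.iterate_succ_apply' _ _ _).symm
    have hfn : f (n + 1) = ∑ j ∈ Finset.range (n + 1), B j • f j := by
      rw [← hb, Finset.sum_range]
      simp only [hB]
    rw [map_sum]
    simp only [LinearMap.map_smulₛₗ, hTf]
    rw [Finset.sum_range_succ, hXn, hfn, Finset.smul_sum]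
    simp only [smul_smul]
    rw [Finset.sum_range_succ' _ n, ← add_assoc, ← Finset.sum_add_distrib,
      Finset.sum_range_succ' (fun j => X j • f j) n, hX0]
    congr 1
    refine Finset.sum_congr rfl fun j _ => ?_
    rw [hXs, add_smul]

theorem fixed_basis [FiniteDimensional k V] (h2 : Solvable₁ σ) (h3 : Solvable₂ σ) (T : V →ₛₗ[σ] V)
    (h1 : span k (Set.range ⇑T) = ⊤) :
    (∃ b : Module.Basis (Fin (Module.finrank k V)) k V, ∀ i, T (b i) = b i) ∧
      Function.Surjective (fun v : V => v - T v) := by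
  classical
  let Fx : Set V := {v | T v = v}
  let F : Submodule k V := span k Fx
  have hFT : ∀ v ∈ F, T v ∈ F := by
    intro v hv
    induction hv using span_induction with
    | mem x hx => exact subset_span (show T (T x) = T x by rw [show T x = x from hx]; exact hx)
    | zero => rw [map_zero]; exact zero_mem _
    | add a b _ _ ha hb => rw [map_add]; exact add_mem ha hb
    | smul c a _ ha => rw [LinearMap.map_smulₛₗ]; exact smul_mem _ _ ha
  have hAS : ∀ v ∈ F, ∃ w ∈ F, w - T w = v := by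
    intro v hv
    obtain ⟨c, hc, rfl⟩ := (mem_span_set.1 hv : ∃ c : V →₀ k, ↑c.support ⊆ Fx ∧
      (c.sum fun mi r => r • mi) = v)
    choose y hy using fun x => h3 (c x)
    refine ⟨∑ x ∈ c.support, y x • x, sum_mem fun x hx => smul_mem _ _ (subset_span (hc hx)), ?_⟩
    rw [map_sum, ← Finset.sum_sub_distrib, Finsupp.sum]
    refine Finset.sum_congr rfl fun x hx => ?_
    rw [LinearMap.map_smulₛₗ, show T x = x from hc hx, ← sub_smul]
    congr 1
    linear_combination (-1 : k) * hy x
  have hF : F = ⊤ := by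
    by_contra hne
    let Tq : (V ⧸ F) →ₛₗ[σ] V ⧸ F :=
      Submodule.liftQ F ((Submodule.mkQ F).comp T) fun v hv => by
        rw [LinearMap.mem_ker, LinearMap.comp_apply, Submodule.mkQ_apply, Submodule.Quotient.mk_eq_zero]
        exact hFT v hv
    have hTq : ∀ v, Tq (Submodule.Quotient.mk v) = Submodule.Quotient.mk (T v) := fun v => rfl
    have hq : span k (Set.range ⇑Tq) = ⊤ := by
      refine eq_top_iff.2 fun z _ => ?_
      obtain ⟨v, rfl⟩ := F.mkQ_surjective z
      have hv : v ∈ span k (Set.range ⇑T) := by rw [h1]; trivial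
      have := Submodule.mem_map_of_mem (f := F.mkQ) hv
      rw [Submodule.map_span] at this
      refine span_mono ?_ this
      rintro _ ⟨_, ⟨w, rfl⟩, rfl⟩
      exact ⟨_, hTq w⟩
    have hinj := injective_of_span Tq hq
    haveI : Nontrivial (V ⧸ F) := Submodule.Quotient.nontrivial_iff.2 hne
    obtain ⟨e, he⟩ := exists_ne (0 : V ⧸ F)
    obtain ⟨z, -, hz0, hzT⟩ := exists_fixed h2 Tq e fun m h => he (by
      have := (hinj.iterate m) (h.trans (iterate_zero' Tq m).symm)
      exact this)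
    obtain ⟨v, rfl⟩ := F.mkQ_surjective z
    have hv : T v - v ∈ F := (Submodule.Quotient.eq F).1 hzT
    obtain ⟨w, hwF, hw⟩ := hAS _ hv
    have hfix : T (v + w) = v + w := by
      rw [map_add]
      have : T v = v + (w - T w) := by rw [hw]; abel
      rw [this]; abel
    refine hz0 ((Submodule.Quotient.mk_eq_zero F).2 ?_)
    simpa using sub_mem (subset_span hfix : v + w ∈ F) hwF
  refine ⟨?_, fun v => ?_⟩
  · obtain ⟨s, hsF, hs, hli⟩ := exists_linearIndependent k Fx
    have hspan : ⊤ ≤ span k (Set.range (Subtype.val : s → V)) := by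
      rw [Subtype.range_coe, hs]; exact hF.ge
    let b₀ := Module.Basis.mk hli hspan
    let b := b₀.reindex (b₀.indexEquiv (Module.finBasis k V))
    refine ⟨b, fun i => ?_⟩
    simp only [b, b₀, Module.Basis.reindex_apply, Module.Basis.mk_apply]
    exact hsF (Subtype.mem _)
  · obtain ⟨w, -, hw⟩ := hAS v (by rw [hF]; trivial)
    exact ⟨w, hw⟩

theorem sub_surjective [FiniteDimensional k V] (hσ : Function.Surjective σ) (h2 : Solvable₁ σ)
    (h3 : Solvable₂ σ) (T : V →ₛₗ[σ] V) : Function.Surjective (fun v : V => v - T v) := by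
  obtain ⟨⟨W, -, ⟨N, hN⟩, hWc⟩, -⟩ := fitting hσ T
  intro v
  obtain ⟨a, ha, b, hb, rfl⟩ := Submodule.mem_sup.1 (show v ∈ W ⊔ ss T by rw [hWc.sup_eq_top]; trivial)
  obtain ⟨b', hb'⟩ := (fixed_basis h2 h3 (restrictSS T) (span_restrictSS T)).2 ⟨b, hb⟩
  refine ⟨(∑ i ∈ Finset.range N, (⇑T)^[i] a) + b'.1, ?_⟩
  have htel : (∑ i ∈ Finset.range N, (⇑T)^[i] a) - T (∑ i ∈ Finset.range N, (⇑T)^[i] a) = a := by
    rw [map_sum, ← Finset.sum_sub_distrib]
    simp only [← Function.iterate_succ_apply' (⇑T)]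
    rw [Finset.sum_range_sub' (fun i => (⇑T)^[i] a), hN a ha, sub_zero]
    rfl
  have hb'' : b'.1 - T b'.1 = b := congrArg Subtype.val hb'
  simp only [map_add]
  rw [add_sub_add_comm, htel, hb'']

theorem exists_basis_ss [FiniteDimensional k V] (h2 : Solvable₁ σ) (h3 : Solvable₂ σ)
    (T : V →ₛₗ[σ] V) :
    ∃ b : Module.Basis (Fin (Module.finrank k (ss T))) k (ss T),
      ∀ i, T (b i : V) = (b i : V) := by
  obtain ⟨⟨b, hb⟩, -⟩ := fixed_basis h2 h3 (restrictSS T) (span_restrictSS T)
  exact ⟨b, fun i => congrArg Subtype.val (hb i)⟩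

theorem fixed_mem_ss (T : V →ₛₗ[σ] V) {v : V} (hv : T v = v) : v ∈ ss T :=
  Submodule.mem_iInf _ |>.2 fun n => subset_span ⟨v, Function.iterate_fixed hv n⟩

theorem exists_fixed_generators [FiniteDimensional k V] (h2 : Solvable₁ σ) (h3 : Solvable₂ σ)
    (T : V →ₛₗ[σ] V) :
    ∃ (d : ℕ) (u : Fin d → V), (∀ i, T (u i) = u i) ∧
      ∀ v, T v = v → ∃ c : Fin d → k, (∀ i, σ (c i) = c i) ∧ v = ∑ i, c i • u i := by
  obtain ⟨b, hb⟩ := exists_basis_ss h2 h3 T
  refine ⟨_, fun i => (b i : V), hb, fun v hv => ⟨fun i => b.repr ⟨v, fixed_mem_ss T hv⟩ i, ?_, ?_⟩⟩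
  · intro i
    have h1 : (⟨v, fixed_mem_ss T hv⟩ : ss T) =
        ∑ j, σ (b.repr ⟨v, fixed_mem_ss T hv⟩ j) • b j := by
      apply Subtype.ext
      have hval : v = ∑ j, b.repr ⟨v, fixed_mem_ss T hv⟩ j • (b j : V) := by
        have h0 := congrArg (ss T).subtype (b.sum_repr ⟨v, fixed_mem_ss T hv⟩)
        simp only [map_sum, map_smul, Submodule.subtype_apply] at h0
        exact h0.symm
      calc v = T v := hv.symm
        _ = _ := by
          conv_lhs => rw [hval]
          simp [map_sum, LinearMap.map_smulₛₗ, hb]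
    conv_rhs => rw [h1]
    simp [map_sum, Finsupp.single_apply]
  · have h0 := congrArg (ss T).subtype (b.sum_repr ⟨v, fixed_mem_ss T hv⟩)
    simp only [map_sum, map_smul, Submodule.subtype_apply] at h0
    exact h0.symm

end Groth.Agent.SigmaLin26
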