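import Groth.Agent.SigmaLin26.Field
import Mathlib.RingTheory.Finiteness.Basic
import Mathlib.RingTheory.Ideal.Quotient.Operations

/-! Semilinear endomorphisms over rings with nilpotent uniformizer. -/

namespace Groth.Agent.SigmaLin26

open Submodule

universe u v w

variable {R : Type u} [CommRing R] {σ : R →+* R} {k : Type w} [Field k] {σbar : k →+* k}
  {π : R →+* k} {p : ℕ}

section Quot

variable {M : Type v} [AddCommGroup M] [Module R M]

/-- The range of multiplication by `p`. -/
abbrev pM (p : ℕ) (M : Type v) [AddCommGroup M] [Module R M] : Submodule R M :=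
  LinearMap.range ((p : R) • (LinearMap.id : M →ₗ[R] M))

theorem mem_pM {m : M} : m ∈ pM (R := R) p M ↔ ∃ m', (p : R) • m' = m := Iff.rfl

theorem map_pM (T : M →ₛₗ[σ] M) {m : M} (hm : m ∈ pM (R := R) p M) : T m ∈ pM (R := R) p M := by
  obtain ⟨m', rfl⟩ := mem_pM.1 hm
  exact mem_pM.2 ⟨T m', by rw [LinearMap.map_smulₛₗ, map_natCast]⟩

/-- The mod `p` reduction. -/
theorem exists_reduction (hπ : Function.Surjective π) (hker : RingHom.ker π = Ideal.span {(p : R)})
    (hσ : ∀ r, σbar (π r) = π (σ r)) [Module.Finite R M] (T : M →ₛₗ[σ] M) :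
    ∃ (V : Type v) (_ : AddCommGroup V) (_ : Module k V) (_ : FiniteDimensional k V)
      (T' : V →ₛₗ[σbar] V) (q : M →+ V), Function.Surjective q ∧
        (∀ m, q m = 0 ↔ m ∈ pM (R := R) p M) ∧ (∀ r m, q (r • m) = π r • q m) ∧
        ∀ m, q (T m) = T' (q m) := by
  classical
  let Q := M ⧸ pM (R := R) p M
  have hkill : ∀ r, π r = 0 → ∀ z : Q, r • z = 0 := by
    intro r hr z
    rw [← RingHom.mem_ker, hker, Ideal.mem_span_singleton'] at hr
    obtain ⟨a, rfl⟩ := hr
    obtain ⟨m, rfl⟩ := (pM (R := R) p M).mkQ_surjective z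
    rw [← map_smul, Submodule.mkQ_apply, Submodule.Quotient.mk_eq_zero]
    exact mem_pM.2 ⟨a • m, by rw [smul_smul, mul_comm]⟩
  have hwell : ∀ r s, π r = π s → ∀ z : Q, r • z = s • z := fun r s h z => by
    rw [← sub_eq_zero, ← sub_smul]
    exact hkill _ (by rw [map_sub, h, sub_self]) z
  let sec : k → R := Function.surjInv hπ
  have hsec : ∀ c, π (sec c) = c := Function.surjInv_eq hπ
  letI : Module k Q :=
    { smul := fun c z => sec c • z
      one_smul := fun z => (hwell _ 1 (by rw [hsec, map_one]) z).trans (one_smul R z)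
      mul_smul := fun a b z =>
        (hwell _ (sec a * sec b) (by rw [hsec, map_mul, hsec, hsec]) z).trans (mul_smul _ _ _)
      smul_zero := fun a => smul_zero (sec a)
      smul_add := fun a x y => smul_add (sec a) x y
      add_smul := fun a b z =>
        (hwell _ (sec a + sec b) (by rw [hsec, map_add, hsec, hsec]) z).trans (add_smul _ _ _)
      zero_smul := fun z => hkill _ (hsec 0) z }
  have hsm : ∀ r (z : Q), r • z = π r • z := fun r z => hwell _ _ (hsec _).symm z
  have hQ : Module.Finite k Q := by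
    obtain ⟨s, hs⟩ := (Module.Finite.fg_top : (⊤ : Submodule R M).FG)
    refine ⟨⟨s.image (fun m => Submodule.Quotient.mk m), eq_top_iff.2 fun z hz => ?_⟩⟩
    clear hz
    obtain ⟨m, rfl⟩ := (pM (R := R) p M).mkQ_surjective z
    have hm : m ∈ Submodule.span R (s : Set M) := by rw [hs]; trivial
    induction hm using Submodule.span_induction with
    | mem x hx =>
      exact Submodule.subset_span (Finset.mem_coe.2 (Finset.mem_image.2 ⟨x, hx, rfl⟩))
    | zero => rw [map_zero]; exact zero_mem _
    | add x y _ _ hx hy => rw [map_add]; exact add_mem hx hy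
    | smul r x _ hx => rw [map_smul, hsm]; exact Submodule.smul_mem _ _ hx
  let T₀ : Q →ₛₗ[σ] Q := Submodule.liftQ _ ((pM (R := R) p M).mkQ.comp T) fun m hm => by
    rw [LinearMap.mem_ker, LinearMap.comp_apply, Submodule.mkQ_apply, Submodule.Quotient.mk_eq_zero]
    exact map_pM T hm
  let T' : Q →ₛₗ[σbar] Q :=
    { toFun := T₀
      map_add' := map_add T₀
      map_smul' := fun c z => by
        change T₀ (sec c • z) = σbar c • T₀ z
        rw [LinearMap.map_smulₛₗ, hsm, ← hσ, hsec] }
  exact ⟨Q, inferInstance, inferInstance, hQ, T', (pM (R := R) p M).mkQ.toAddMonoidHom,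
    (pM (R := R) p M).mkQ_surjective, fun m => Submodule.Quotient.mk_eq_zero _,
    fun r m => ((pM (R := R) p M).mkQ.map_smul r m).trans (hsm r _), fun m => rfl⟩

end Quot

variable (hπ : Function.Surjective π) (hker : RingHom.ker π = Ideal.span {(p : R)})
  (hσ : ∀ r, σbar (π r) = π (σ r)) (hsurj : Function.Surjective σbar) (h2 : Solvable₁ σbar)
  (h3 : Solvable₂ σbar)

include hπ hker hσ hsurj h2 h3

theorem sub_surjective_nilpotent (n : ℕ) (hn : (p : R) ^ n = 0) {M : Type v} [AddCommGroup M]
    [Module R M] [Module.Finite R M] (T : M →ₛₗ[σ] M) :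
    Function.Surjective (fun m : M => m - T m) := by
  obtain ⟨V, _, _, _, T', q, hq, hq0, -, hqT⟩ := exists_reduction hπ hker hσ T
  suffices h : ∀ j : ℕ, ∀ m : M, ∃ a b : M, a - T a + (p : R) ^ j • b = m by
    intro m
    obtain ⟨a, b, hab⟩ := h n m
    exact ⟨a, by rw [← hab, hn, zero_smul, add_zero]⟩
  intro j
  induction j with
  | zero => exact fun m => ⟨0, m, by simp⟩
  | succ j ih =>
    intro m
    obtain ⟨a, b, rfl⟩ := ih m
    obtain ⟨v, hv⟩ := sub_surjective hsurj h2 h3 T' (q b)
    obtain ⟨c, rfl⟩ := hq v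
    obtain ⟨b', hb'⟩ := mem_pM.1 ((hq0 (b - (c - T c))).1 (by
      rw [map_sub, map_sub, hqT]
      exact sub_eq_zero.2 hv.symm))
    refine ⟨a + (p : R) ^ j • c, b', ?_⟩
    have hb : b = (c - T c) + (p : R) • b' := by rw [hb']; abel
    rw [map_add, LinearMap.map_smulₛₗ, map_pow, map_natCast, hb, smul_add, smul_sub, smul_smul,
      ← pow_succ]
    abel

theorem fixed_fg (hlift : ∀ x : k, σbar x = x → ∃ r : R, σ r = r ∧ π r = x) :
    ∀ (n : ℕ), (p : R) ^ n = 0 → ∀ {M : Type v} [AddCommGroup M] [Module R M] [Module.Finite R M]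
      (T : M →ₛₗ[σ] M) (e : ℕ), (∀ m : M, (p : R) ^ e • m = 0) →
      ∃ s : Finset M, (∀ m ∈ s, T m = m) ∧
        ∀ m, T m = m → m ∈ Submodule.span (σ.eqLocus (RingHom.id R)) (s : Set M) := by
  intro n hn M _ _ _ T e
  induction e generalizing M with
  | zero => exact fun h => ⟨∅, by simp, fun m _ => by
      have := h m
      rw [pow_zero, one_smul] at this
      rw [this]; exact zero_mem _⟩
  | succ e ih =>
    intro hM
    classical
    obtain ⟨V, _, _, _, T', q, hq, hq0, hqs, hqT⟩ := exists_reduction hπ hker hσ T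
    obtain ⟨d, u, hu, hgen⟩ := exists_fixed_generators h2 h3 T'
    let TP : pM (R := R) p M →ₛₗ[σ] pM (R := R) p M :=
      { toFun := fun m => ⟨T m.1, map_pM T m.2⟩
        map_add' := fun a b => Subtype.ext (map_add T _ _)
        map_smul' := fun c a => Subtype.ext (T.map_smulₛₗ c a.1) }
    haveI : Module.Finite R (pM (R := R) p M) := Module.Finite.range _
    have hlifts : ∀ i, ∃ m : M, T m = m ∧ q m = u i := by
      intro i
      obtain ⟨m, hm⟩ := hq (u i)
      obtain ⟨z, hz⟩ := sub_surjective_nilpotent hπ hker hσ hsurj h2 h3 n hn TP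
        ⟨m - T m, (hq0 _).1 (by rw [map_sub, hqT, hm, hu, sub_self])⟩
      have hz' : z.1 - T z.1 = m - T m := congrArg Subtype.val hz
      refine ⟨m - z.1, ?_, ?_⟩
      · rw [map_sub]
        calc T m - T z.1 = T m - (z.1 - (z.1 - T z.1)) := by abel
          _ = T m - (z.1 - (m - T m)) := by rw [hz']
          _ = m - z.1 := by abel
      · rw [map_sub, hm, (hq0 z.1).2 z.2, sub_zero]
    choose g hg hgu using hlifts
    obtain ⟨s, hs, hsgen⟩ := ih TP (fun m => by
      obtain ⟨m', hm'⟩ := mem_pM.1 m.2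
      apply Subtype.ext
      rw [Submodule.coe_smul, Submodule.coe_zero, ← hm', smul_smul, ← pow_succ]
      exact hM m')
    refine ⟨Finset.univ.image g ∪ s.image Subtype.val, ?_, fun m hm => ?_⟩
    · intro m hm
      rcases Finset.mem_union.1 hm with h | h
      · obtain ⟨i, -, rfl⟩ := Finset.mem_image.1 h; exact hg i
      · obtain ⟨x, hx, rfl⟩ := Finset.mem_image.1 h; exact congrArg Subtype.val (hs x hx)
    · obtain ⟨c, hc, hqm⟩ := hgen (q m) (by rw [← hqT, hm])
      choose r hr hrc using fun i => hlift (c i) (hc i)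
      let m' := m - ∑ i, r i • g i
      have hm'P : m' ∈ pM (R := R) p M := (hq0 _).1 (by
        simp only [m', map_sub, map_sum, hqs, hrc, hgu, hqm, sub_self])
      have hm'T : TP ⟨m', hm'P⟩ = ⟨m', hm'P⟩ := by
        apply Subtype.ext
        change T m' = m'
        simp only [m', map_sub, map_sum, LinearMap.map_smulₛₗ, hm, hr, hg]
      have h1 := hsgen _ hm'T
      have h3' : m' ∈ Submodule.span (σ.eqLocus (RingHom.id R))
          ((Finset.univ.image g ∪ s.image Subtype.val : Finset M) : Set M) := by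
        have key : ∀ z, z ∈ Submodule.span (σ.eqLocus (RingHom.id R)) (s : Set (pM (R := R) p M)) →
            z.1 ∈ Submodule.span (σ.eqLocus (RingHom.id R))
              ((Finset.univ.image g ∪ s.image Subtype.val : Finset M) : Set M) := by
          intro z hz
          induction hz using Submodule.span_induction with
          | mem x hx =>
            exact Submodule.subset_span (Finset.mem_coe.2
              (Finset.mem_union_right _ (Finset.mem_image_of_mem _ hx)))
          | zero => exact zero_mem _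
          | add x y _ _ hx hy => exact add_mem hx hy
          | smul c x _ hx => exact Submodule.smul_mem _ c hx
        exact key _ h1
      have e1 : m = m' + ∑ i, r i • g i := by simp [m']
      rw [e1]
      refine add_mem h3' (sum_mem fun i _ => ?_)
      exact Submodule.smul_mem _ (⟨r i, hr i⟩ : σ.eqLocus (RingHom.id R))
        (Submodule.subset_span (Finset.mem_coe.2
          (Finset.mem_union_left _ (Finset.mem_image_of_mem _ (Finset.mem_univ i)))))

theorem fixed_fg' (hlift : ∀ x : k, σbar x = x → ∃ r : R, σ r = r ∧ π r = x) (n : ℕ)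
    (hn : (p : R) ^ n = 0) {M : Type v} [AddCommGroup M] [Module R M] [Module.Finite R M]
    (T : M →ₛₗ[σ] M) :
    ∃ s : Finset M, (∀ m ∈ s, T m = m) ∧
      ∀ m : M, T m = m → ∃ c : M → R, (∀ x ∈ s, σ (c x) = c x) ∧ m = ∑ x ∈ s, c x • x := by
  obtain ⟨s, hs, hgen⟩ := fixed_fg hπ hker hσ hsurj h2 h3 hlift n hn T n
    (fun m => by rw [hn, zero_smul])
  refine ⟨s, hs, fun m hm => ?_⟩
  obtain ⟨f, -, hf⟩ := Submodule.mem_span_finset.1 (hgen m hm)
  exact ⟨fun x => (f x : R), fun x _ => (f x).2, hf.symm⟩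

end Groth.Agent.SigmaLin26
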