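import Groth.Prelude.Def_WittGrp
import Groth.Agent.SigmaLin26.Nilpotent
import Groth.Agent.SigmaLin26.Frob
import Mathlib.RingTheory.WittVector.Complete
import Mathlib.FieldTheory.Finite.Basic

/-! Truncated Witt vectors of an algebraically closed field. -/

namespace Groth.Agent.SigmaLin26

universe u v

variable {p : ℕ} [hp : Fact p.Prime] {k : Type u} [Field k] [CharP k p]

theorem exists_residue [PerfectRing k p] (m : ℕ) :
    ∃ π : TruncatedWittVector p (m + 1) k →+* k, Function.Surjective π ∧
      RingHom.ker π = Ideal.span {(p : TruncatedWittVector p (m + 1) k)} ∧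
      ∀ x, π x = x.coeff 0 := by
  have hsur := WittVector.truncate_surjective p (m + 1) k
  let π : TruncatedWittVector p (m + 1) k →+* k :=
    { toFun := fun x => x.coeff 0
      map_zero' := by simp
      map_one' := by
        rw [← map_one (WittVector.truncate (p := p) (R := k) (m + 1)), WittVector.coeff_truncate]
        exact WittVector.one_coeff_zero p k
      map_mul' := fun x y => by
        obtain ⟨X, rfl⟩ := hsur x
        obtain ⟨Y, rfl⟩ := hsur y
        rw [← map_mul, WittVector.coeff_truncate, WittVector.coeff_truncate, WittVector.coeff_truncate]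
        exact map_mul (WittVector.constantCoeff (p := p) (R := k)) X Y
      map_add' := fun x y => by
        obtain ⟨X, rfl⟩ := hsur x
        obtain ⟨Y, rfl⟩ := hsur y
        rw [← map_add, WittVector.coeff_truncate, WittVector.coeff_truncate, WittVector.coeff_truncate]
        exact map_add (WittVector.constantCoeff (p := p) (R := k)) X Y }
  have hπ : ∀ x, π x = x.coeff 0 := fun x => rfl
  refine ⟨π, fun c => ⟨WittVector.truncate (m + 1) (WittVector.teichmuller p c), ?_⟩, ?_, hπ⟩
  · rw [hπ, WittVector.coeff_truncate]
    exact WittVector.teichmuller_coeff_zero p c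
  · ext x
    obtain ⟨X, rfl⟩ := hsur x
    constructor
    · intro hx
      rw [RingHom.mem_ker, hπ, WittVector.coeff_truncate] at hx
      have h1 := (WittVector.mem_span_p_iff_coeff_zero_eq_zero X).2 hx
      have h2 := Ideal.mem_map_of_mem (WittVector.truncate (p := p) (R := k) (m + 1)) h1
      rwa [Ideal.map_span, Set.image_singleton, map_natCast] at h2
    · intro hx
      obtain ⟨a, ha⟩ := Ideal.mem_span_singleton'.1 hx
      rw [RingHom.mem_ker, ← ha, map_mul, map_natCast, CharP.cast_eq_zero, mul_zero]

theorem natCast_pow_eq_zero [PerfectRing k p] (n : ℕ) :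
    ((p : TruncatedWittVector p n k)) ^ n = 0 := by
  rw [← map_natCast (WittVector.truncate (p := p) (R := k) n), ← map_pow]
  refine TruncatedWittVector.ext fun i => ?_
  rw [WittVector.coeff_truncate, TruncatedWittVector.coeff_zero]
  exact (WittVector.mem_span_p_pow_iff_le_coeff_eq_zero _ n).1
    (Ideal.mem_span_singleton_self _) i i.2

/-- All hypotheses of the general theorems hold. -/
theorem witt_setup [IsAlgClosed k] (m : ℕ) (f : k →+* k)
    (hf : f = frobenius k p ∨ f = (frobeniusEquiv k p).symm.toRingHom) :
    ∃ π : TruncatedWittVector p (m + 1) k →+* k, Function.Surjective π ∧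
      RingHom.ker π = Ideal.span {(p : TruncatedWittVector p (m + 1) k)} ∧
      (∀ r, f (π r) = π (WittGrp.truncMap p (m + 1) f r)) ∧ Function.Surjective f ∧
      Solvable₁ f ∧ Solvable₂ f ∧
      (∀ x : k, f x = x → ∃ r, WittGrp.truncMap p (m + 1) f r = r ∧ π r = x) ∧
      {x : k | f x = x}.Finite := by
  obtain ⟨π, h1, h2, h3⟩ := exists_residue (p := p) (k := k) m
  have hfix : ∀ x : k, f x = x → x ^ p = x := by
    intro x hx
    rcases hf with rfl | rfl
    · simpa [frobenius_def] using hx
    · have h := congrArg (fun y => y ^ p) hx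
      change ((frobeniusEquiv k p).symm x) ^ p = x ^ p at h
      rw [frobeniusEquiv_symm_pow_p] at h
      exact h.symm
  have hsur : Function.Surjective f := by
    rcases hf with rfl | rfl
    · exact surjective_frobenius k p
    · exact (frobeniusEquiv k p).symm.surjective
  have hs1 : Solvable₁ f := by
    rcases hf with rfl | rfl
    · exact frob_solvable₁
    · exact frobInv_solvable₁
  have hs2 : Solvable₂ f := by
    rcases hf with rfl | rfl
    · exact frob_solvable₂
    · exact frobInv_solvable₂
  have hnat : ∀ x : k, x ^ p = x → ∃ a : ℕ, (a : k) = x := by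
    classical
    intro x hx
    let P : Polynomial k := Polynomial.X ^ p - Polynomial.X
    have hP : P ≠ 0 := FiniteField.X_pow_card_sub_X_ne_zero k hp.out.one_lt
    have hdeg : P.natDegree = p := FiniteField.X_pow_card_sub_X_natDegree_eq k hp.out.one_lt
    by_contra hcon
    push Not at hcon
    let s : Finset k := insert x ((Finset.range p).image fun a : ℕ => (a : k))
    have hs : s.card = p + 1 := by
      rw [Finset.card_insert_of_notMem, Finset.card_image_of_injOn, Finset.card_range]
      · intro a ha b hb hab
        exact (CharP.natCast_eq_natCast k p).1 hab |>.eq_of_lt_of_lt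
          (by simpa using ha) (by simpa using hb)
      · simpa using fun a _ => hcon a
    have hroot : ∀ y ∈ s, y ∈ P.roots := by
      intro y hy
      rw [Polynomial.mem_roots hP]
      rcases Finset.mem_insert.1 hy with rfl | hy
      · simp [P, hx]
      · obtain ⟨a, -, rfl⟩ := Finset.mem_image.1 hy
        have : frobenius k p (a : k) = a := map_natCast _ a
        rw [frobenius_def] at this
        simp [P, this]
    have := (Finset.card_le_card (fun y hy => Multiset.mem_toFinset.2 (hroot y hy) :
      s ⊆ P.roots.toFinset)).trans ((Multiset.toFinset_card_le _).trans (Polynomial.card_roots' P))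
    omega
  refine ⟨π, h1, h2, fun r => by rw [h3, h3, WittGrp.coeff_truncMap], hsur, hs1, hs2,
    fun x hx => ?_, ?_⟩
  · obtain ⟨a, rfl⟩ := hnat x (hfix x hx)
    exact ⟨(a : TruncatedWittVector p (m + 1) k), map_natCast _ a, map_natCast π a⟩
  · refine ((Set.finite_range fun a : Fin p => ((a : ℕ) : k))).subset fun x hx => ?_
    obtain ⟨a, rfl⟩ := hnat x (hfix x hx)
    exact ⟨⟨a % p, Nat.mod_lt _ hp.out.pos⟩, (CharP.natCast_eq_natCast k p).2 (Nat.mod_modEq a p)⟩

end Groth.Agent.SigmaLin26
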